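import Groth.Agent.Lib.EtDer.SpecAcyclic
import Groth.Agent.Lib.TorsorFin18.Basic
import Groth.Agent.Lib.Hensel.TensorIntegral

/-!
# Closed subschemes of affine normal schemes with separably closed function field are acyclic
-/

set_option autoImplicit false
set_option backward.isDefEq.respectTransparency false
set_option backward.isDefEq.respectTransparency.types false
set_option linter.style.haveILetI false

universe u

open CategoryTheory CategoryTheory.Limits CategoryTheory.Abelian AlgebraicGeometry Opposite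
open GrothLib.EtDer GrothLib.EtDer.MV

noncomputable section

namespace GrothLib.AICAcyc18

theorem isSepClosed_of_ringEquiv {A B : Type u} [Field A] [Field B] (e : A ≃+* B) [IsSepClosed A] :
    IsSepClosed B := by
  refine IsSepClosed.of_exists_root _ fun q _ hirr hsep => ?_
  obtain ⟨a, ha⟩ := IsSepClosed.exists_root (q.map e.symm.toRingHom)
    (by rw [Polynomial.degree_map]; exact (Polynomial.degree_pos_of_irreducible hirr).ne')
    (hsep.map)
  refine ⟨e a, ?_⟩
  have h2 : q.eval₂ e.symm.toRingHom a = 0 := by rw [← Polynomial.eval_map]; exact ha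
  have h3 := Polynomial.hom_eval₂ q e.symm.toRingHom e.toRingHom a
  rw [h2, map_zero] at h3
  rw [Polynomial.eval, show RingHom.id B = e.toRingHom.comp e.symm.toRingHom from
    RingHom.ext fun b => (e.apply_symm_apply b).symm]
  exact h3.symm

theorem strictlyHenselian_of_surjective {R T : Type u} [CommRing R] [CommRing T] [IsLocalRing T]
    (φ : R →+* T) (hφ : Function.Surjective φ) [IsLocalHom φ]
    (h : EtCoh.IsStrictlyHenselianLocalRing R) : EtCoh.IsStrictlyHenselianLocalRing T := by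
  obtain ⟨hR, hsep⟩ := h
  letI := φ.toAlgebra
  haveI : IsLocalHom (algebraMap R T) := ‹IsLocalHom φ›
  haveI : Algebra.IsIntegral R T := ⟨fun t => by obtain ⟨r, rfl⟩ := hφ t; exact isIntegral_algebraMap⟩
  refine ⟨GrothLib.Hensel.henselianLocalRing_of_isIntegral_isLocalHom (R := R), ?_⟩
  haveI := hsep
  refine isSepClosed_of_ringEquiv (RingEquiv.ofBijective (IsLocalRing.ResidueField.map φ)
    ⟨(IsLocalRing.ResidueField.map φ).injective, fun y => ?_⟩)
  obtain ⟨t, rfl⟩ := IsLocalRing.residue_surjective y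
  obtain ⟨r, rfl⟩ := hφ t
  exact ⟨IsLocalRing.residue R r, rfl⟩

theorem subsingleton_H {Z X : Scheme.{u}} [IsAffine X] [IsIntegral X] (i : Z ⟶ X) [IsClosedImmersion i]
    (M : Type) [AddCommGroup M] [Finite M] (hN : ∀ x : X, IsIntegrallyClosed (X.presheaf.stalk x))
    [IsSepClosed X.functionField] (n : ℕ) : Subsingleton (EtCoh.H Z (EtCoh.const Z M) (n + 1)) := by
  obtain ⟨hZ, hi⟩ := IsClosedImmersion.isAffine_surjective_of_isAffine (f := i)
  refine EtDer.subsingleton_H (fun z => strictlyHenselian_of_surjective (i.stalkMap z).hom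
    (i.stalkMap_surjective z) (GrothLib.EtBasicB.stalk_strictlyHenselian X hN (i.base z))) _ ?_ n
  intro f g _ _ x _ _
  obtain ⟨s, hs⟩ := hi (f + g)
  have hpre : i ⁻¹ᵁ X.basicOpen s = Z.basicOpen (f + g) := by
    rw [← hs]; exact Scheme.preimage_basicOpen i s
  suffices hsub : ∀ x : Ext.{u + 1} (AW (i ⁻¹ᵁ X.basicOpen s)) (EtCoh.const Z M) 1, x = 0 by
    rw [hpre] at hsub; exact hsub x
  clear * -i hN hi
  intro x
  let D := X.basicOpen s
  rcases isEmpty_or_nonempty D with hD | hD
  · have hz : IsZero (AW (i ⁻¹ᵁ D)) := by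
      have : i ⁻¹ᵁ D = ⊥ := by
        ext z
        exact ⟨fun hz => hD.elim ⟨i.base z, hz⟩, fun hz => hz.elim⟩
      rw [this]; exact isZero_AW_bot
    rw [← Ext.mk₀_id_comp x, hz.eq_of_src (𝟙 _) 0, Ext.mk₀_zero, Ext.zero_comp]
  haveI : IsIntegral D.toScheme := inferInstance
  haveI : IsAffine D.toScheme := (isAffineOpen_top X).basicOpen s
  have hND : ∀ y : D.toScheme, IsIntegrallyClosed (D.toScheme.presheaf.stalk y) := fun y =>
    @IsIntegrallyClosed.of_equiv _ _ _ _ (D.stalkIso y).symm.commRingCatIsoToRingEquiv (hN y.1)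
  haveI : IsSepClosed D.toScheme.functionField :=
    isSepClosed_of_ringEquiv ((X.presheaf.stalkCongr (.of_eq (genericPoint_eq_of_isOpenImmersion D.ι).symm)) ≪≫
      (D.stalkIso (genericPoint D.toScheme)).symm).commRingCatIsoToRingEquiv
  haveI := GrothLib.TorsorFin18.subsingleton_H_one (i ⁻¹ᵁ D).toScheme M fun V φ _ _ _ =>
    GrothLib.EtBasicB.exists_section_of_finite hND (i ∣_ D) φ
  refine (psi (EtCoh.const Z M) (i ⁻¹ᵁ D) 1).injective ?_
  rw [map_zero]
  let c := EtCore.pullConst (i ⁻¹ᵁ D).ι M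
  have h0 : ∀ y : EtCoh.H (i ⁻¹ᵁ D).toScheme ((EtCoh.pull (i ⁻¹ᵁ D).ι).obj (EtCoh.const Z M)) 1, y = 0 := fun y => by
    rw [← Ext.comp_mk₀_id y, ← c.hom_inv_id, ← Ext.mk₀_comp_mk₀, ← Ext.comp_assoc_of_second_deg_zero,
      Subsingleton.elim (y.comp (Ext.mk₀ c.hom) (add_zero 1)) 0, Ext.zero_comp]
  exact h0 _

end GrothLib.AICAcyc18
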